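import Cfsg.Agent.OddOrder.ZJ.Replacement
import Cfsg.Agent.HallHigman.MinimalAction
import Cfsg.Agent.PLocal.Thompson

/-!
# Glauberman replacement with exact order, exponent and rank
-/

set_option autoImplicit false
open scoped commutatorElement

namespace CfsgLib.ZJStronglyClosed

open Cfsg Subgroup CfsgLib.LocalEvenBasic CfsgLib.OddOrder.ZJ

variable {G : Type*} [Group G]

/-- `[a, x]` has exponent dividing an odd exponent of `a`. -/
theorem step_pow_eq_one {A V : Subgroup G} {x : G} (h : Step A V x) {a : G} (ha : a ∈ A) {e : ℕ}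
    (he : Odd e) (hae : a ^ e = 1) : (a * x * a⁻¹ * x⁻¹) ^ e = 1 := by
  set f := a * x * a⁻¹ * x⁻¹ with hf
  set b := x * a⁻¹ * x⁻¹ with hb
  have hfab : f = a * b := by rw [hf, hb]; group
  set c := ⁅b, a⁆ with hc
  have hcm : c ∈ A ⊓ V := by
    have e1 : c = a⁻¹ * (f * a * f⁻¹) := by rw [hc, hfab, commutatorElement_def]; group
    refine mem_inf.2 ⟨?_, ?_⟩
    · rw [e1]; exact mul_mem (inv_mem ha) ((mem_normalizer_iff.1 (h.step a ha) a).1 ha)
    · rw [e1, show a⁻¹ * (f * a * f⁻¹) = a⁻¹ * f * a⁻¹⁻¹ * f⁻¹ by group]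
      exact mul_mem ((mem_normalizer_iff.1 (h.norm (inv_mem ha)) f).1 (h.f_mem ha))
        (inv_mem (h.f_mem ha))
  have hca : Commute a c := h.comm_mem ha hcm.1
  have hcb : Commute b c := by
    have : b = a⁻¹ * f := by rw [hfab]; group
    rw [this]
    exact hca.inv_left.mul_left (h.f_commute_inf ha hcm)
  set K := closure ({a, b} : Set G) with hK
  have hle : K ≤ centralizer {c} := by
    rw [hK, closure_le]
    rintro w (rfl | rfl)
    · exact mem_centralizer_singleton_iff.2 hca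
    · exact mem_centralizer_singleton_iff.2 hcb
  let a' : K := ⟨a, subset_closure (Set.mem_insert _ _)⟩
  let b' : K := ⟨b, subset_closure (Set.mem_insert_of_mem _ rfl)⟩
  have hcen : ⁅b', a'⁆ ∈ center K := mem_center_iff.2 fun w =>
    Subtype.ext (mem_centralizer_singleton_iff.1 (hle w.2))
  have hbe : b' ^ e = 1 := Subtype.ext (by
    show b ^ e = 1
    rw [hb, conj_pow, inv_pow, hae]; simp)
  have hce : ⁅b', a'⁆ ^ e = 1 := by
    rw [← HallHigman.commutatorElement_pow_class_two hcen, hbe, commutatorElement_one_left]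
  obtain ⟨k, hk⟩ := he
  have hch : e.choose 2 = e * k := by
    rw [Nat.choose_two_right, hk, show 2 * k + 1 - 1 = k * 2 by omega, ← mul_assoc,
      Nat.mul_div_cancel _ two_pos]
  have hp := congrArg Subtype.val (HallHigman.mul_pow_class_two a' b' hcen e)
  rw [hch, pow_mul, hce, one_pow, mul_one, hbe, mul_one] at hp
  rw [hfab]
  exact hp.trans hae

variable [Finite G]

/-- The counting of `card_le_replaceAt` on a subgroup `E` of `B`. -/
theorem card_le_commWith_sup {B D E : Subgroup G} (hB : IsMulCommutative B)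
    (hD : IsMulCommutative D) {x : G} (hBD : B ≤ Subgroup.normalizer (D : Set G))
    (h : ∀ b ∈ B, b * x * b⁻¹ * x⁻¹ ∈ D) (hE : E ≤ B) :
    Nat.card E ≤ Nat.card ↥(commWith E x ⊔ (E ⊓ centralizer (commWith B x : Set G))) := by
  set N := commWith E x with hN
  set C := E ⊓ centralizer (commWith B x : Set G) with hC
  let f : G → G := fun b => b * x * b⁻¹ * x⁻¹
  have hrel : ∀ b ∈ B, ∀ c ∈ B, c * f b * c⁻¹ * (f b)⁻¹ = b * f c * b⁻¹ * (f c)⁻¹ := by
    intro b hb c hc
    have e1 : c * f b * c⁻¹ * f c = f (c * b) := by simp only [f]; group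
    have e2 : b * f c * b⁻¹ * f b = f (b * c) := by simp only [f]; group
    have e3 : c * f b * c⁻¹ * f c = b * f c * b⁻¹ * f b := by
      rw [e1, e2, commute_of_mem_isMulCommutative hB hc hb]
    have h2 : c * f b * c⁻¹ = b * f c * b⁻¹ * f b * (f c)⁻¹ := by rw [← e3]; group
    rw [h2, mul_assoc (b * f c * b⁻¹) (f b) (f c)⁻¹,
      commute_of_mem_isMulCommutative hD (h b hb) (D.inv_mem (h c hc)), ← mul_assoc,
      mul_inv_cancel_right]
  have hfix : ∀ b ∈ E, ∀ b' ∈ E, (f b)⁻¹ * f b' ∈ E → b⁻¹ * b' ∈ C := by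
    intro b hb b' hb' hβ
    refine ⟨E.mul_mem (E.inv_mem hb) hb', ?_⟩
    suffices hs : commWith B x ≤ Subgroup.centralizer {b⁻¹ * b'} from
      mem_centralizer_iff.mpr fun m hm => (mem_centralizer_iff.mp (hs hm) _ rfl).symm
    refine (closure_le _).mpr ?_
    rintro _ ⟨c, hc, rfl⟩
    rw [SetLike.mem_coe, mem_centralizer_singleton_iff]
    set β := (f b)⁻¹ * f b' with hβdef
    have hb'eq : f b' = f b * β := by rw [hβdef]; group
    have hcβ : c * β * c⁻¹ = β := by
      rw [commute_of_mem_isMulCommutative hB hc (hE hβ), mul_inv_cancel_right]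
    have e : c * f b' * c⁻¹ * (f b')⁻¹ = c * f b * c⁻¹ * (f b)⁻¹ := by
      rw [hb'eq, show c * (f b * β) * c⁻¹ = c * f b * c⁻¹ * (c * β * c⁻¹) by group, hcβ]
      group
    rw [hrel b' (hE hb') c hc, hrel b (hE hb) c hc] at e
    have e2 : b' * f c * b'⁻¹ = b * f c * b⁻¹ := mul_right_cancel e
    show f c * (b⁻¹ * b') = b⁻¹ * b' * f c
    calc f c * (b⁻¹ * b') = b⁻¹ * (b * f c * b⁻¹) * b' := by group
      _ = b⁻¹ * (b' * f c * b'⁻¹) * b' := by rw [e2]
      _ = b⁻¹ * b' * f c := by group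
  let g : ↥E ⧸ C.subgroupOf E → ↥N ⧸ E.subgroupOf N := fun q =>
    QuotientGroup.mk ⟨f (q.out : G), mem_commWith x q.out.2⟩
  have hinj : Function.Injective g := by
    intro q q' hqq'
    rw [← q.out_eq, ← q'.out_eq, QuotientGroup.eq, mem_subgroupOf]
    refine hfix _ q.out.2 _ q'.out.2 ?_
    simpa [g, QuotientGroup.eq, mem_subgroupOf] using hqq'
  have h1 : C.relIndex E ≤ E.relIndex N := Nat.card_le_card_of_injective g hinj
  have h2 : Nat.card C * C.relIndex E = Nat.card E := card_mul_relIndex_of_le _ _ inf_le_left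
  have h3 : E.relIndex N ≤ C.relIndex N :=
    Nat.le_of_dvd (Nat.pos_of_ne_zero index_ne_zero_of_finite) (relIndex_dvd_of_le_left N inf_le_left)
  have h4 : Nat.card C * C.relIndex (N ⊔ C) = Nat.card ↥(N ⊔ C) :=
    card_mul_relIndex_of_le _ _ le_sup_right
  have h5 : C.relIndex N ≤ C.relIndex (N ⊔ C) :=
    relIndex_le_of_le_right le_sup_left index_ne_zero_of_finite
  show Nat.card E ≤ Nat.card ↥(N ⊔ C)
  rw [← h2, ← h4]
  exact Nat.mul_le_mul_left _ (h1.trans (h3.trans h5))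

variable {p : ℕ} [Fact p.Prime]

/-- In an abelian `p`-group: a subgroup of given order above `R` with large `Ω₁`. -/
theorem exists_between {X : Subgroup G} (hX : IsMulCommutative X) (hp : IsPGroup p X)
    {R : Subgroup G} (hR : R ≤ X) {m s : ℕ} (hRm : Nat.card R ≤ p ^ m)
    (hmX : p ^ m ≤ Nat.card X) (hs : p ^ s ≤ Nat.card ↥(omegaOne p X)) (hsm : p ^ s ≤ p ^ m)
    (hb : Nat.card R * p ^ s ≤ p ^ m * Nat.card ↥(omegaOne p R)) :
    ∃ K : Subgroup G, R ≤ K ∧ K ≤ X ∧ Nat.card K = p ^ m ∧ p ^ s ≤ Nat.card ↥(omegaOne p K) := by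
  haveI := hX
  have h1 : 1 < p := (Fact.out : p.Prime).one_lt
  have hup : ∀ {Y T : Subgroup G} (k : ℕ), Y ≤ X → T ≤ Y → Nat.card T ≤ p ^ k → p ^ k ≤ Nat.card Y →
      ∃ K : Subgroup G, T ≤ K ∧ K ≤ Y ∧ Nat.card K = p ^ k := by
    intro Y T k hY hT hTk hkY
    obtain ⟨a, ha⟩ := IsPGroup.iff_card.1 (hp.to_le (hT.trans hY))
    obtain ⟨b, hb'⟩ := IsPGroup.iff_card.1 (hp.to_le hY)
    have hak : a ≤ k := (Nat.pow_le_pow_iff_right h1).1 (ha ▸ hTk)
    have hkb : k ≤ b := (Nat.pow_le_pow_iff_right h1).1 (hb' ▸ hkY)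
    obtain ⟨K, hK, hTK⟩ := Sylow.exists_subgroup_card_pow_prime_le p (n := a) (m := k)
      (hb' ▸ pow_dvd_pow p hkb) (T.subgroupOf Y)
      (by rw [Nat.card_congr (subgroupOfEquivOfLe hT).toEquiv]; exact ha) hak
    refine ⟨K.map Y.subtype, ?_, map_subtype_le K, ?_⟩
    · rw [← map_subgroupOf_eq_of_le hT]; exact map_mono hTK
    · rw [card_map_of_injective Y.subtype_injective, hK]
  by_cases hcase : Nat.card ↥(omegaOne p R) ≤ p ^ s
  · obtain ⟨E, hE1, hE2, hE3⟩ := hup s (PLocal.omegaOne_le p X) (PLocal.omegaOne_mono hR) hcase hs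
    have hEX : E ≤ X := hE2.trans (PLocal.omegaOne_le p X)
    have hsup : Nat.card ↥(R ⊔ E) ≤ p ^ m := by
      haveI : (R.subgroupOf X).Normal := ⟨fun a ha b => by
        rw [show b * a * b⁻¹ = a by rw [mul_comm' b a, mul_inv_cancel_right]]; exact ha⟩
      have e1 : R.relIndex (R ⊔ E) = R.relIndex E := by
        rw [← relIndex_subgroupOf (sup_le hR hEX), subgroupOf_sup hR hEX,
          relIndex_sup_left, relIndex_subgroupOf hEX]
      have e2 := card_mul_relIndex_of_le R (R ⊔ E) le_sup_left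
      have e3 : Nat.card ↥(R ⊓ E) * R.relIndex E = Nat.card E := by
        rw [← inf_relIndex_right R E]; exact card_mul_relIndex_of_le _ _ inf_le_right
      have e4 : Nat.card ↥(omegaOne p R) ≤ Nat.card ↥(R ⊓ E) :=
        card_le_of_le (le_inf (PLocal.omegaOne_le p R) hE1)
      rw [e1] at e2
      rw [hE3] at e3
      have h5 : Nat.card ↥(R ⊔ E) * Nat.card ↥(omegaOne p R) ≤ p ^ m * Nat.card ↥(omegaOne p R) :=
        calc Nat.card ↥(R ⊔ E) * Nat.card ↥(omegaOne p R)
            ≤ Nat.card ↥(R ⊔ E) * Nat.card ↥(R ⊓ E) := Nat.mul_le_mul_left _ e4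
          _ = Nat.card R * p ^ s := by rw [← e2, ← e3]; ring
          _ ≤ _ := hb
      exact Nat.le_of_mul_le_mul_right h5 Nat.card_pos
    obtain ⟨K, hK1, hK2, hK3⟩ := hup m le_rfl (sup_le hR hEX) hsup hmX
    refine ⟨K, le_sup_left.trans hK1, hK2, hK3, hE3 ▸ card_le_of_le fun e he => ?_⟩
    exact PLocal.mem_omegaOne (hK1 (mem_sup_right he))
      ((PLocal.isElementaryAbelian_omegaOne (p := p) hX).2 e (hE2 he))
  · obtain ⟨K, hK1, hK2, hK3⟩ := hup m le_rfl hR hRm hmX
    exact ⟨K, hK1, hK2, hK3, (not_le.1 hcase).le.trans (card_le_of_le (PLocal.omegaOne_mono hK1))⟩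

/-- **Glauberman replacement** with exact order. -/
theorem exists_replacement (hp2 : p ≠ 2) (hG : IsPGroup p G) (A B : Subgroup G)
    (hA : IsMulCommutative A) (hc : ∀ u ∈ B, ∀ v ∈ B, ∀ w ∈ B, Commute ⁅u, v⁆ w)
    (hBA : ⁅B, B⁆ ≤ A) (hAB : A ≤ normalizer (B : Set G)) (hBnA : ¬ B ≤ normalizer (A : Set G)) :
    ∃ K : Subgroup G, IsMulCommutative K ∧ Nat.card K = Nat.card A ∧ A ⊓ B < K ⊓ B ∧
      K ≤ normalizer (A : Set G) ∧ K ≤ normalClosure (A : Set G) ∧
      Monoid.exponent K ∣ Monoid.exponent A ∧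
      Nat.card (omegaOne p A) ≤ Nat.card (omegaOne p K) := by
  classical
  have hGp : IsPGroup p (⊤ : Subgroup G) := hG.to_subgroup ⊤
  obtain ⟨x, hxB, hxA, hxstep⟩ :=
    exists_step_element (p := p) hGp (le_top : A ≤ ⊤) le_top hAB hBnA
  have h : Step A B x := ⟨hA, hAB, hBA, hc, hxB, hxstep⟩
  have hpodd : Odd p := (Fact.out : p.Prime).odd_of_ne_two hp2
  have hodd : ∀ v ∈ B, v * v = 1 → v = 1 := by
    intro v _ hv
    obtain ⟨k, hk⟩ := hG v
    have hcop : (2 : ℕ).Coprime (p ^ k) :=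
      ((Nat.coprime_primes Nat.prime_two Fact.out).2 (Ne.symm hp2)).pow_right k
    exact orderOf_eq_one_iff.1 (Nat.eq_one_of_dvd_coprimes hcop
      (orderOf_dvd_of_pow_eq_one ((pow_two v).trans hv)) (orderOf_dvd_of_pow_eq_one hk))
  obtain ⟨hX, hcard, hlt, hXN, hMB, -⟩ := h.replace hodd hxA
  set X := replaceAt A x with hXdef
  have hf : ∀ a ∈ A, a * x * a⁻¹ * x⁻¹ ∈ Step.target A B x := fun a ha => h.f_mem_target ha
  set W := A ⊓ B with hW
  have hWX : W ≤ X := fun w hw => (hlt.le hw).1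
  set Ω := omegaOne p A with hΩ
  have hΩA : Ω ≤ A := PLocal.omegaOne_le p A
  have hΩp : ∀ a ∈ Ω, a ^ p = 1 := (PLocal.isElementaryAbelian_omegaOne hA).2
  -- the rank of `X`
  have hsX : Nat.card Ω ≤ Nat.card ↥(omegaOne p X) := by
    refine (card_le_commWith_sup hA (h.target_comm hodd) h.le_normalizer_target hf hΩA).trans
      (card_le_of_le (sup_le (commWith_le fun a ha => ?_) fun c hc' => ?_))
    · exact PLocal.mem_omegaOne (mem_sup_left (mem_commWith x (hΩA ha)))
        (step_pow_eq_one h (hΩA ha) hpodd (hΩp a ha))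
    · exact PLocal.mem_omegaOne (mem_sup_right ⟨hΩA hc'.1, hc'.2⟩) (hΩp c hc'.1)
  -- a subgroup `R` just above `W`
  obtain ⟨y, hyX, hyB, hyW, hyp, hy1⟩ : ∃ y, y ∈ X ∧ y ∈ B ∧ y ∉ W ∧ y ^ p ∈ W ∧
      (W ⊔ Ω = A → y ^ p = 1) := by
    by_cases hJ : W ⊔ Ω = A
    · by_contra hcon
      push Not at hcon
      have hfA : ∀ a ∈ Ω, a * x * a⁻¹ * x⁻¹ ∈ A := fun a ha => by
        by_contra hn
        have h1 := step_pow_eq_one h (hΩA ha) hpodd (hΩp a ha)
        obtain ⟨-, h3⟩ := hcon _ (mem_sup_left (mem_commWith x (hΩA ha))) (h.f_mem (hΩA ha))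
          (fun hw => hn hw.1) (by rw [h1]; exact one_mem _)
        exact h3 h1
      let K : Subgroup G :=
        { carrier := {a | a ∈ A ∧ a * x * a⁻¹ * x⁻¹ ∈ A}
          one_mem' := ⟨one_mem _, by simp⟩
          mul_mem' := fun {a b} ha hb => ⟨mul_mem ha.1 hb.1, by
            have e : a * b * x * (a * b)⁻¹ * x⁻¹ =
                a * (b * x * b⁻¹ * x⁻¹) * a⁻¹ * (a * x * a⁻¹ * x⁻¹) := by group
            rw [e]; exact mul_mem (mul_mem (mul_mem ha.1 hb.2) (inv_mem ha.1)) ha.2⟩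
          inv_mem' := fun {a} ha => ⟨inv_mem ha.1, by
            have e : a⁻¹ * x * a⁻¹⁻¹ * x⁻¹ = a⁻¹ * (a * x * a⁻¹ * x⁻¹)⁻¹ * a := by group
            rw [e]; exact mul_mem (mul_mem (inv_mem ha.1) (inv_mem ha.2)) ha.1⟩ }
      have hAK : A ≤ K := hJ ▸ sup_le (fun w hw => ⟨hw.1, by
        have := hBA (commutator_mem_commutator hw.2 hxB)
        rwa [commutatorElement_def] at this⟩) fun a ha => ⟨hΩA ha, hfA a ha⟩
      refine hxA (CfsgLib.LocalStructure.mem_normalizer_of_forall fun a ha => ?_)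
      have e : x * a * x⁻¹ = a * (a⁻¹ * x * a⁻¹⁻¹ * x⁻¹) := by group
      rw [e]
      exact mul_mem ha (hAK (inv_mem ha)).2
    · obtain ⟨y₀, hy₀, hy₀W⟩ := SetLike.exists_of_lt hlt
      obtain ⟨k, hk⟩ := hG y₀
      have hex : ∃ j, y₀ ^ p ^ j ∈ W := ⟨k, by rw [hk]; exact one_mem _⟩
      have hj := Nat.find_spec hex
      obtain ⟨j, hjeq⟩ : ∃ j, Nat.find hex = j + 1 :=
        Nat.exists_eq_add_one.2 (Nat.pos_of_ne_zero fun h0 => hy₀W (by
          rw [h0, pow_zero, pow_one] at hj; exact hj))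
      refine ⟨y₀ ^ p ^ j, pow_mem hy₀.1 _, pow_mem hy₀.2 _,
        Nat.find_min hex (by omega), ?_, fun h' => absurd h' hJ⟩
      rw [← pow_mul, ← pow_succ, ← hjeq]; exact hj
  set R := W ⊔ zpowers y with hR
  have hRX : R ≤ X := sup_le hWX (zpowers_le.2 hyX)
  have hp0 : 0 < p := (Fact.out : p.Prime).pos
  have hRcard : Nat.card R ≤ p * Nat.card W := by
    haveI := hX
    haveI : (W.subgroupOf R).Normal := ⟨fun a ha b => by
      have e : b * a * b⁻¹ = a := Subtype.ext (by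
        show (b : G) * a * (b : G)⁻¹ = a
        rw [commute_of_mem_isMulCommutative hX (hRX b.2) (hRX a.2), mul_inv_cancel_right])
      rwa [e]⟩
    rw [← card_mul_relIndex_of_le W R le_sup_left, mul_comm p]
    refine Nat.mul_le_mul_left _ ?_
    let Y : R ⧸ W.subgroupOf R := QuotientGroup.mk ⟨y, mem_sup_right (mem_zpowers y)⟩
    have htop : zpowers Y = ⊤ := by
      rw [eq_top_iff]
      rintro q -
      obtain ⟨⟨r, hr⟩, rfl⟩ := QuotientGroup.mk'_surjective _ q
      have hle : R ≤ ((zpowers Y).comap (QuotientGroup.mk' (W.subgroupOf R))).map R.subtype := by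
        refine sup_le (fun w hw => ?_) (zpowers_le.2 ?_)
        · refine ⟨⟨w, mem_sup_left hw⟩, ?_, rfl⟩
          rw [SetLike.mem_coe, mem_comap, QuotientGroup.mk'_apply,
            (QuotientGroup.eq_one_iff _).2 (mem_subgroupOf.2 hw)]
          exact one_mem _
        · exact ⟨⟨y, mem_sup_right (mem_zpowers y)⟩, mem_zpowers Y, rfl⟩
      obtain ⟨r', hr', he⟩ := hle hr
      rwa [show r' = ⟨r, hr⟩ from Subtype.ext he] at hr'
    have hYp : Y ^ p = 1 := (QuotientGroup.eq_one_iff _).2 (mem_subgroupOf.2 hyp)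
    calc W.relIndex R = Nat.card (zpowers Y) := by rw [htop, card_top]; rfl
      _ = orderOf Y := Nat.card_zpowers Y
      _ ≤ p := Nat.le_of_dvd hp0 (orderOf_dvd_of_pow_eq_one hYp)
  obtain ⟨m, hm⟩ := IsPGroup.iff_card.1 (hG.to_subgroup A)
  obtain ⟨s, hs⟩ := IsPGroup.iff_card.1 (hG.to_subgroup Ω)
  have hWA : W < A := lt_of_le_of_ne inf_le_left fun he => hBnA fun b hb => by
    have hAleB : A ≤ B := fun a ha => ((he.ge : A ≤ W) ha).2
    refine CfsgLib.LocalStructure.mem_normalizer_of_forall fun a ha => ?_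
    have := mul_mem (hBA (commutator_mem_commutator hb (hAleB ha))) ha
    rwa [commutatorElement_def, inv_mul_cancel_right] at this
  have hstep : ∀ {U : Subgroup G}, U ≤ A → U ≠ A → p * Nat.card U ≤ Nat.card A := by
    intro U hU hne
    rw [← card_mul_relIndex_of_le U A hU, mul_comm p]
    refine Nat.mul_le_mul_left _ ?_
    obtain ⟨j, hj⟩ := (hG.to_subgroup A).index (U.subgroupOf A)
    have hj' : U.relIndex A = p ^ j := hj
    rcases j with _ | j
    · exact absurd (le_antisymm hU (relIndex_eq_one.1 (by simpa using hj'))) hne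
    · rw [hj']; exact Nat.le_self_pow j.succ_ne_zero p
  have hb : Nat.card R * Nat.card Ω ≤ Nat.card A * Nat.card ↥(omegaOne p R) := by
    have hJ : Nat.card W * Nat.card Ω ≤ Nat.card ↥(omegaOne p W) * Nat.card ↥(W ⊔ Ω) :=
      (card_mul_le_inf_mul_sup W Ω).trans (Nat.mul_le_mul_right _
        (card_le_of_le fun z hz => PLocal.mem_omegaOne hz.1 (hΩp z hz.2)))
    have h1 : Nat.card R * Nat.card Ω ≤ p * (Nat.card ↥(omegaOne p W) * Nat.card ↥(W ⊔ Ω)) :=
      (Nat.mul_le_mul_right _ hRcard).trans (by rw [mul_assoc]; exact Nat.mul_le_mul_left _ hJ)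
    refine h1.trans ?_
    by_cases hJA : W ⊔ Ω = A
    · rw [hJA, ← mul_assoc, mul_comm (Nat.card A)]
      refine Nat.mul_le_mul_right _ ?_
      have hle : omegaOne p W ≤ omegaOne p R := PLocal.omegaOne_mono le_sup_left
      obtain ⟨j, hj⟩ := ((hG.to_subgroup (omegaOne p R)).index
        ((omegaOne p W).subgroupOf (omegaOne p R)))
      have hj' : (omegaOne p W).relIndex (omegaOne p R) = p ^ j := hj
      rw [← card_mul_relIndex_of_le _ _ hle, hj', mul_comm p]
      refine Nat.mul_le_mul_left _ ?_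
      rcases j with _ | j
      · exfalso
        exact hyW (PLocal.omegaOne_le p W (relIndex_eq_one.1 (by simpa using hj')
          (PLocal.mem_omegaOne (mem_sup_right (mem_zpowers y)) (hy1 hJA))))
      · exact Nat.le_self_pow j.succ_ne_zero p
    · calc p * (Nat.card ↥(omegaOne p W) * Nat.card ↥(W ⊔ Ω))
          = p * Nat.card ↥(W ⊔ Ω) * Nat.card ↥(omegaOne p W) := by ring
        _ ≤ _ := Nat.mul_le_mul (hstep (sup_le inf_le_left hΩA) hJA)
            (card_le_of_le (PLocal.omegaOne_mono le_sup_left))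
  obtain ⟨K, hRK, hKX, hKc, hKs⟩ := exists_between (p := p) (m := m) (s := s) hX (hG.to_subgroup X)
    hRX (hm ▸ hRcard.trans (hstep inf_le_left hWA.ne)) (hm ▸ hcard) (hs ▸ hsX)
    (hs ▸ hm ▸ card_le_of_le hΩA) (hs ▸ hm ▸ hb)
  refine ⟨K, ⟨⟨fun a b => Subtype.ext (commute_of_mem_isMulCommutative hX (hKX a.2) (hKX b.2))⟩⟩,
    hKc.trans hm.symm, ?_, hKX.trans hXN, hKX.trans ?_, ?_, hs ▸ hKs⟩
  · exact lt_of_le_of_ne (le_inf (le_sup_left.trans hRK) inf_le_right) fun he =>
      hyW (he ▸ mem_inf.2 ⟨hRK (mem_sup_right (mem_zpowers y)), hyB⟩)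
  · refine sup_le (commWith_le fun a ha => ?_) (inf_le_left.trans le_normalClosure)
    have e : a * x * a⁻¹ * x⁻¹ = a * (x * a⁻¹ * x⁻¹) := by group
    rw [e]
    exact mul_mem (le_normalClosure ha)
      ((inferInstance : (normalClosure (A : Set G)).Normal).conj_mem _ (le_normalClosure (inv_mem ha)) x)
  · rw [Monoid.exponent_dvd_iff_forall_pow_eq_one]
    intro z
    have he : Odd (Monoid.exponent A) := by
      obtain ⟨k, hk⟩ := IsPGroup.iff_card.1 (hG.to_subgroup A)
      exact (Odd.pow hpodd).of_dvd_nat (hk ▸ Group.exponent_dvd_nat_card)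
    have hA1 : ∀ a ∈ A, a ^ Monoid.exponent A = 1 := fun a ha =>
      congrArg Subtype.val (Monoid.pow_exponent_eq_one (⟨a, ha⟩ : A))
    apply Subtype.ext
    show (z : G) ^ Monoid.exponent A = 1
    have hz : (z : G) ∈ X := hKX z.2
    rw [hXdef, replaceAt, commWith, ← Subgroup.closure_eq (A ⊓ _), ← Subgroup.closure_union] at hz
    clear_value R
    generalize (z : G) = w at hz ⊢
    induction hz using closure_induction with
    | mem w hw =>
      rcases hw with ⟨a, ha, rfl⟩ | hw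
      · exact step_pow_eq_one h ha he (hA1 a ha)
      · exact hA1 w hw.1
    | one => exact one_pow _
    | mul a b ha hb iha ihb =>
      have hab : Commute a b := commute_of_mem_isMulCommutative hX
        (by rw [hXdef, replaceAt, commWith, ← Subgroup.closure_eq (A ⊓ _), ← Subgroup.closure_union]; exact ha)
        (by rw [hXdef, replaceAt, commWith, ← Subgroup.closure_eq (A ⊓ _), ← Subgroup.closure_union]; exact hb)
      rw [hab.mul_pow, iha, ihb, one_mul]
    | inv a _ iha => rw [inv_pow, iha, inv_one]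

end CfsgLib.ZJStronglyClosed
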