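import Cfsg.Agent.OddOrder.ZJ.Main
import Cfsg.Prelude.Def_TwoFusion

/-!
# Glauberman's `ZJ` theorem for strongly closed subgroups

The argument of `CfsgLib.OddOrder.ZJ.inf_zjay_normal` with the Sylow subgroup `S` replaced, inside
`J`, by a strongly closed subgroup `D` of `S`.
-/

set_option autoImplicit false
open scoped commutatorElement

namespace CfsgLib.ZJStronglyClosed

open Cfsg Subgroup CfsgLib.LocalEvenBasic CfsgLib.OddOrder.ZJ CfsgLib.OddOrder

variable {G : Type*} [Group G] {p : ℕ}

theorem conj_mem_of_mem {D S : Subgroup G} (hD : IsStronglyClosed D S) {g x : G}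
    (hx : x ∈ D) (hg : g ∈ S) : g * x * g⁻¹ ∈ D :=
  hD.2 x hx g (mul_mem (mul_mem hg (hD.1 hx)) (inv_mem hg))

theorem normalizer_sylow_le [Finite G] {D S : Subgroup G} (hD : IsStronglyClosed D S) :
    normalizer (S : Set G) ≤ normalizer (D : Set G) := fun _ hg =>
  LocalStructure.mem_normalizer_of_forall fun x hx =>
    hD.2 x hx _ ((mem_normalizer_iff.1 hg x).1 (hD.1 hx))

theorem le_normalizer_closed [Finite G] {D S : Subgroup G} (hD : IsStronglyClosed D S) :
    S ≤ normalizer (D : Set G) :=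
  le_normalizer.trans (normalizer_sylow_le hD)

/-- A normal closure inside `S` of a subset of `D` lies in `D`. -/
theorem le_of_conj_mem {D S : Subgroup G} (hD : IsStronglyClosed D S) {s : Set G}
    (hS : normalClosure s ≤ S) (hs : ∀ z ∈ s, z ∈ D) : normalClosure s ≤ D := by
  refine (closure_le _).2 fun z hz => ?_
  obtain ⟨y, hy, hyz⟩ := Group.mem_conjugatesOfSet_iff.1 hz
  obtain ⟨g, rfl⟩ := isConj_iff.1 hyz
  exact hD.2 y (hs y hy) g (hS (subset_closure hz))

variable [Finite G] [Fact p.Prime]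

/-- Frattini argument at `D ∩ L`. -/
theorem normalizer_inf_sup_eq_top {S : Sylow p G} {D : Subgroup G}
    (hD : IsStronglyClosed D (S : Subgroup G)) (L : Subgroup G) [L.Normal] :
    normalizer ((D ⊓ L : Subgroup G) : Set G) ⊔ L = ⊤ := by
  obtain ⟨Q, hQ⟩ := UniqueMaximal.exists_sylow_map_eq_inf L S
  have htop := Sylow.normalizer_sup_eq_top Q
  rw [hQ] at htop
  refine top_le_iff.1 (htop.ge.trans (sup_le_sup_right (fun g hg => ?_) L))
  refine LocalStructure.mem_normalizer_of_forall fun x hx => ?_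
  have h1 := (mem_normalizer_iff.1 hg x).1 ⟨hD.1 hx.1, hx.2⟩
  exact mem_inf.2 ⟨hD.2 x hx.1 g h1.1, h1.2⟩

theorem inf_zjay_normal_of_class_two (hp2 : p ≠ 2) (hst : QuadraticStable p G) {n : ℕ}
    (hn : n = 0 ∨ n = p) (S : Sylow p G) {D : Subgroup G} (hD : IsStronglyClosed D (S : Subgroup G))
    {B : Subgroup G} [B.Normal] (hBS : B ≤ S)
    (hgen : normalClosure ((B ⊓ zjay n D : Subgroup G) : Set G) = B)
    (hder : ⁅B, B⁆ ≤ zjay n D)
    (hc : ∀ u ∈ B, ∀ v ∈ B, ∀ w ∈ B, Commute ⁅u, v⁆ w) :
    (B ⊓ zjay n D).Normal := by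
  set Z := zjay n D with hZ
  set Y := B ⊓ Z with hY
  have hBp : IsPGroup p B := S.isPGroup'.to_le hBS
  set L := (normalizer (Y : Set G)).normalCore with hL
  have hBN : centralizer (B : Set G) ≤ normalizer (Y : Set G) :=
    (centralizer_le (inf_le_left : Y ≤ B)).trans (centralizer_le_normalizer _)
  have hSN : (S : Subgroup G) ≤ normalizer (Y : Set G) := fun g hg => by
    refine LocalStructure.mem_normalizer_of_forall fun y hy => mem_inf.2 ⟨?_, ?_⟩
    · exact (inferInstance : B.Normal).conj_mem y hy.1 g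
    · exact (mem_normalizer_iff.1 (normalizer_le_normalizer_zjay n _
        (normalizer_sylow_le hD (le_normalizer hg))) y).1 hy.2
  have hBD : B ≤ D := by
    rw [← hgen]
    refine le_of_conj_mem hD ?_ ?_
    · rw [hgen]; exact hBS
    · exact fun z hz => zjay_le n D hz.2
  set V := expSubgroup n hn hp2 B hc with hVdef
  have hVB : V ≤ B := fun v hv => hv.1
  haveI hVn : V.Normal := ⟨fun v hv g => ⟨(inferInstance : B.Normal).conj_mem v hv.1 g, by
    rw [conj_pow, hv.2]; simp⟩⟩
  -- quadratic elements of `S` on `V` lie in `L`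
  have hquadL : ∀ a : G, (∀ w ∈ V, Commute ⁅w, a⁆ a) → a ∈ L := by
    intro a ha
    have hCle : centralizer (B : Set G) ≤ centralizer (V : Set G) := centralizer_le hVB
    obtain ⟨k, hk⟩ := relIndex_eq_pow_of_coprime_mem (p := p) hCle fun x hx hxo => by
      refine mem_centralizer_iff.2 fun b hb => (commute_of_commute_expSubgroup hp2 hn hBp hc
        (by rw [normalizer_eq_top]; exact mem_top x) hxo (fun v hv hvn =>
          (mem_centralizer_iff.1 hx v ⟨hv, hvn⟩).symm) b hb).eq.symm
    have hle : (pCore p (G ⧸ centralizer (V : Set G))).comap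
        (QuotientGroup.mk' (centralizer (V : Set G))) ≤ L := by
      haveI : ((pCore p (G ⧸ centralizer (V : Set G))).comap
        (QuotientGroup.mk' (centralizer (V : Set G)))).Normal :=
          Subgroup.Normal.comap inferInstance _
      rw [hL]
      exact normal_le_normalCore.2 ((comap_pCore_le_sylow_sup S hCle hk).trans (sup_le hSN hBN))
    exact hle (hst V (hBp.to_le hVB) a ha)
  have hodd : ∀ v ∈ V, v * v = 1 → v = 1 := by
    intro v hv hv2
    obtain ⟨k, hk⟩ := hBp ⟨v, hVB hv⟩
    have h1 : v ^ p ^ k = 1 := congrArg Subtype.val hk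
    have hcop : (2 : ℕ).Coprime (p ^ k) :=
      ((Nat.coprime_primes Nat.prime_two Fact.out).2 (Ne.symm hp2)).pow_right k
    exact orderOf_eq_one_iff.1 (Nat.eq_one_of_dvd_coprimes hcop
      (orderOf_dvd_of_pow_eq_one ((pow_two v).trans hv2)) (orderOf_dvd_of_pow_eq_one h1))
  -- all members lie in `L`
  have hJL : jay n D ≤ L := by
    by_contra hcon
    obtain ⟨A₀, hA₀, hA₀L⟩ : ∃ A ∈ maxIn n D, ¬ A ≤ L := by
      by_contra h
      push_neg at h
      exact hcon (sSup_le h)
    obtain ⟨A, ⟨hA, hAL⟩, hAmax⟩ := Set.Finite.exists_maximalFor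
      (fun A : Subgroup G => Nat.card ↥(A ⊓ V))
      {A | A ∈ maxIn n D ∧ ¬ A ≤ L} (Set.toFinite _) ⟨A₀, hA₀, hA₀L⟩
    have hAVn : A ≤ normalizer (V : Set G) := by rw [normalizer_eq_top]; exact le_top
    -- a subgroup of `V` normalising `A` makes `A` quadratic
    have hnotN : ¬ V ≤ normalizer (A : Set G) := fun hVA => hAL fun a ha => hquadL a fun w hw =>
      Quad.commute_commutator_of_abelian hA.2.1.1 hVA ha hw
    have hVVA : ⁅V, V⁆ ≤ A := by
      refine commutator_le.2 fun u hu v hv => ?_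
      have hw : ⁅u, v⁆ ∈ Z := hder (commutator_mem_commutator (hVB hu) (hVB hv))
      have hwV : ⁅u, v⁆ ∈ V := by
        rw [commutatorElement_def]
        exact mul_mem (mul_mem (mul_mem hu hv) (inv_mem hu)) (inv_mem hv)
      exact mem_of_centralizes hA (zjay_le n _ hw) hwV.2 fun a ha =>
        mem_centralizer_iff.1 hw.2 a (le_sSup (α := Subgroup G) hA ha)
    obtain ⟨x, hxV, hxA, hxstep⟩ := exists_step_element (p := p) S.isPGroup' (hA.1.trans hD.1)
      (hVB.trans hBS) hAVn hnotN
    have hstep : Step A V x := ⟨hA.2.1.1, hAVn, hVVA,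
      fun u hu v hv w hw => hc u (hVB hu) v (hVB hv) w (hVB hw), hxV, hxstep⟩
    obtain ⟨h1, h2, h3, h4, h5, h6⟩ := hstep.replace hodd hxA
    set A' := replaceAt A x with hA'
    have hA'S : A' ≤ D := h6.trans (sup_le hA.1 (hVB.trans hBD))
    have hA'e : IsExpAbelian n A' := by
      refine ⟨h1, ?_⟩
      intro y hy
      rw [hA', replaceAt, sup_eq_closure] at hy
      have hy' : y ∈ closure ((commWith A x : Set G) ∪ (A ⊓ centralizer (commWith A x : Set G) : Subgroup G)) := hy
      clear hy
      induction hy' using closure_induction with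
      | mem z hz =>
        rcases hz with hz | hz
        · exact (h5 hz).2
        · exact hA.2.1.2 z hz.1
      | one => exact one_pow n
      | mul a b ha hb iha ihb =>
        have hcab : Commute a b := commute_of_mem_isMulCommutative h1
          (by rw [hA', replaceAt, sup_eq_closure]; exact ha)
          (by rw [hA', replaceAt, sup_eq_closure]; exact hb)
        rw [hcab.mul_pow, iha, ihb, one_mul]
      | inv a ha iha => rw [inv_pow, iha, inv_one]
    have hA'max : A' ∈ maxIn n D :=
      ⟨hA'S, hA'e, fun C hC hCe => (hA.2.2 C hC hCe).trans h2⟩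
    have hlt : Nat.card ↥(A ⊓ V) < Nat.card ↥(A' ⊓ V) :=
      Set.ncard_lt_ncard (SetLike.coe_ssubset_coe.2 h3) |> fun h => by
        simpa only [← Nat.card_coe_set_eq, SetLike.coe_sort_coe] using h
    have hA'L : A' ≤ L := by
      by_contra hA'n
      exact absurd (hAmax ⟨hA'max, hA'n⟩ hlt.le) (not_le.2 hlt)
    -- Frattini
    set R := D ⊓ L with hR
    haveI : L.Normal := normalCore_normal _
    have htop : normalizer (R : Set G) ⊔ L = ⊤ := normalizer_inf_sup_eq_top hD L
    set X := centralizer (jay n R : Set G) with hX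
    have hJR : jay n R ≤ jay n D := by
      refine sSup_le fun C hC => le_sSup ?_
      have hA'R : A' ≤ R := le_inf hA'S hA'L
      exact ⟨hC.1.trans inf_le_left, hC.2.1,
        fun D hD hDe => (hA'max.2.2 D hD hDe).trans (hC.2.2 A' hA'R hA'e)⟩
    have hA'JR : A' ≤ jay n R := le_sSup
      ⟨le_inf hA'S hA'L, hA'e, fun D hD hDe => hA'max.2.2 D (hD.trans inf_le_left) hDe⟩
    have hYX : Y ≤ X := (inf_le_right.trans inf_le_right).trans (centralizer_le hJR)
    have hconj : ∀ g : G, ∀ y ∈ Y, g * y * g⁻¹ ∈ X := by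
      intro g y hy
      have hg : g ∈ normalizer (R : Set G) ⊔ L := htop ▸ mem_top g
      rw [← SetLike.mem_coe, mul_normal] at hg
      obtain ⟨m, hm, l, hl, rfl⟩ := hg
      have hl' : l ∈ normalizer (Y : Set G) := normalCore_le _ hl
      have h7 : l * y * l⁻¹ ∈ Y := (mem_normalizer_iff.1 hl' y).1 hy
      have h8 : m ∈ normalizer (jay n R : Set G) := normalizer_le_normalizer_jay n R hm
      have e : m * l * y * (m * l)⁻¹ = m * (l * y * l⁻¹) * m⁻¹ := by group
      rw [e]
      refine mem_centralizer_iff.2 fun z hz => ?_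
      have hz' := mem_centralizer_iff.1 (hYX h7) _ ((mem_normalizer_iff''.1 h8 z).1 hz)
      simpa [mul_assoc] using congrArg (fun t => m * t * m⁻¹) hz'
    have hBX : B ≤ X := by
      rw [← hgen, normalClosure, closure_le]
      intro z hz
      obtain ⟨y, hy, hyz⟩ := Group.mem_conjugatesOfSet_iff.1 hz
      obtain ⟨g, rfl⟩ := isConj_iff.1 hyz
      exact hconj g y hy
    have hVA' : V ≤ A' := fun v hv => mem_of_centralizes hA'max (hBD (hVB hv)) hv.2 fun a ha =>
      mem_centralizer_iff.1 (hBX (hVB hv)) a (hA'JR ha)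
    exact hnotN (hVA'.trans h4)
  -- conclude
  haveI : L.Normal := normalCore_normal _
  have htop := normalizer_inf_sup_eq_top hD L
  have hN : normalizer ((D ⊓ L : Subgroup G) : Set G) ≤ normalizer (Y : Set G) := by
    intro g hg
    have hZR : zjay n (D ⊓ L) = Z := by
      rw [hZ, zjay, zjay, jay, jay, maxIn_of_le inf_le_left (le_inf (jay_le n _) hJL)]
    refine LocalStructure.mem_normalizer_of_forall fun y hy => mem_inf.2 ⟨?_, ?_⟩
    · exact (inferInstance : B.Normal).conj_mem y hy.1 g
    · have := normalizer_le_normalizer_zjay n _ hg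
      rw [hZR] at this
      exact (mem_normalizer_iff.1 this y).1 hy.2
  rw [← normalizer_eq_top_iff, eq_top_iff, ← htop]
  exact sup_le hN (normalCore_le _)

/-- **Glauberman**: normal `p`-subgroups meet `ZJ(S)` in normal subgroups. -/
theorem inf_zjay_normal (hp2 : p ≠ 2) (hst : QuadraticStable p G) {n : ℕ} (hn : n = 0 ∨ n = p)
    (S : Sylow p G) {D : Subgroup G} (hD : IsStronglyClosed D (S : Subgroup G)) :
    ∀ (B : Subgroup G) [B.Normal], B ≤ S → (B ⊓ zjay n D).Normal := by
  intro B
  induction hm : Nat.card B using Nat.strongRecOn generalizing B with | ind m ih => ?_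
  intro _ hBS
  subst hm
  set Z := zjay n D with hZ
  set B₁ := normalClosure ((B ⊓ Z : Subgroup G) : Set G) with hB₁
  have hB₁B : B₁ ≤ B := normalClosure_le_normal inf_le_left
  rcases lt_or_eq_of_le hB₁B with hlt | heq
  · have := ih (Nat.card B₁) (lt_of_not_ge fun h => hlt.ne (eq_of_le_of_card_ge hB₁B h)) B₁ rfl
      (hB₁B.trans hBS)
    have e : B₁ ⊓ Z = B ⊓ Z := le_antisymm (inf_le_inf_right _ hB₁B)
      (le_inf (le_normalClosure) inf_le_right)
    rwa [e] at this
  rcases eq_or_ne B ⊥ with hbot | hne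
  · rw [hbot, bot_inf_eq]; infer_instance
  have hBp : IsPGroup p B := S.isPGroup'.to_le hBS
  have hlt : ⁅B, B⁆ < B := CfsgLib.Coprime.commutator_lt_of_isPGroup hBp hBp le_normalizer hne
  haveI hYn : (⁅B, B⁆ ⊓ Z).Normal :=
    ih (Nat.card ↥⁅B, B⁆) (lt_of_not_ge fun h => hlt.ne (eq_of_le_of_card_ge hlt.le h)) ⁅B, B⁆ rfl
      (hlt.le.trans hBS)
  set Y := ⁅B, B⁆ ⊓ Z with hY
  set K := (centralizer ((B.map (QuotientGroup.mk' Y) : Subgroup (G ⧸ Y)) : Set (G ⧸ Y))).comap
    (QuotientGroup.mk' Y) with hK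
  haveI : (B.map (QuotientGroup.mk' Y)).Normal :=
    Subgroup.Normal.map inferInstance _ (QuotientGroup.mk'_surjective Y)
  haveI : K.Normal := Subgroup.Normal.comap inferInstance _
  have hmemK : ∀ g : G, g ∈ K ↔ ∀ b ∈ B, ⁅g, b⁆ ∈ Y := by
    intro g
    rw [hK, mem_comap, mem_centralizer_iff]
    constructor
    · intro h b hb
      rw [← QuotientGroup.eq_one_iff, ← QuotientGroup.mk'_apply, map_commutatorElement,
        commutatorElement_eq_one_iff_commute]
      exact (h _ (mem_map_of_mem _ hb)).symm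
    · rintro h _ ⟨b, hb, rfl⟩
      have h1 := h b hb
      rw [← QuotientGroup.eq_one_iff, ← QuotientGroup.mk'_apply, map_commutatorElement,
        commutatorElement_eq_one_iff_commute] at h1
      exact h1.eq.symm
  have hBK : B ≤ K := by
    rw [← heq]
    refine normalClosure_le_normal fun z hz => (hmemK z).2 fun b hb => mem_inf.2 ⟨?_, ?_⟩
    · exact commutator_mem_commutator hz.1 hb
    · rw [commutatorElement_def, mul_assoc, mul_assoc]
      refine mul_mem hz.2 ?_
      rw [← mul_assoc]
      exact (mem_normalizer_iff.1 (normalizer_le_normalizer_zjay n _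
        (normalizer_sylow_le hD (le_normalizer (hBS hb)))) _).1 (inv_mem hz.2)
  have hder : ⁅B, B⁆ ≤ Z := commutator_le.2 fun u hu v hv => ((hmemK u).1 (hBK hu) v hv).2
  have hcent : B ≤ centralizer ((⁅B, B⁆ : Subgroup G) : Set G) := by
    conv_lhs => rw [← heq]
    refine normalClosure_le_normal fun z hz => mem_centralizer_iff.2 fun w hw => ?_
    exact congrArg Subtype.val ((zjay_comm n D).is_comm.comm ⟨w, hder hw⟩ ⟨z, hz.2⟩)
  exact inf_zjay_normal_of_class_two hp2 hst hn S hD hBS heq hder fun u hu v hv w hw =>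
    mem_centralizer_iff.1 (hcent hw) _ (commutator_mem_commutator hu hv)


/-- **Glauberman's ZJ theorem** for a strongly closed subgroup. -/
theorem zjay_normal (hp2 : p ≠ 2) (hst : QuadraticStable p G)
    (hc : centralizer (pCore p G : Set G) ≤ pCore p G) {n : ℕ} (hn : n = 0 ∨ n = p) (S : Sylow p G)
    {D : Subgroup G} (hD : IsStronglyClosed D (S : Subgroup G)) : (zjay n D).Normal := by
  have hle : zjay n D ≤ pCore p G := fun a ha =>
    Quad.mem_pCore_of_map_mem ((PLocal.isPGroup_pCore p G).to_le hc)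
      (hst (pCore p G) (PLocal.isPGroup_pCore p G) a fun w hw =>
        Quad.commute_commutator_of_abelian (zjay_comm n D)
          ((PLocal.pCore_le_sylow S).trans
            ((le_normalizer_closed hD).trans (normalizer_le_normalizer_zjay n _)))
          ha hw)
  have h := inf_zjay_normal hp2 hst hn S hD (pCore p G) (PLocal.pCore_le_sylow S)
  rwa [inf_eq_right.2 hle] at h

end CfsgLib.ZJStronglyClosed
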