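import Cfsg.Agent.ZJStronglyClosed.Basic
import Cfsg.Agent.ConjFunctor.Main
import Cfsg.Agent.Techniques.StableFusion
import Cfsg.Agent.LocalEven.QdSection
import Cfsg.Agent.LocalEvenBasic.DStar

/-!
# Control of strong fusion by `N(Z(J(D)))`, `D` strongly closed

* `controls_of_local`: local to global, climbing through `zjay n (D ⊓ N_S(U))`.
* `controls_of_qdFree`: `Qd(p)`-free groups, every odd `p`.
* `controls_of_constrained`: stable groups with `p`-constrained locals.
-/

set_option autoImplicit false

universe u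

namespace CfsgLib.ZJStronglyClosed

open Cfsg Subgroup CfsgLib.OddOrder.ZJ CfsgLib.ConjFunctor

variable {p : ℕ} [Fact p.Prime] {G : Type u} [Group G] [Finite G] {S D : Subgroup G} {n : ℕ}

theorem inf_ne_bot_of_normalizing (hS : IsSylowIn p S ⊤) (hD : IsStronglyClosed D S) (hD1 : D ≠ ⊥)
    (U : Subgroup G) (hU : U ≤ S) : D ⊓ nrm S U ≠ ⊥ := by
  haveI : (D.subgroupOf S).Normal :=
    normal_subgroupOf_of_le_normalizer (le_normalizer_closed hD)
  have hne : D.subgroupOf S ≠ ⊥ := by
    rw [Ne, subgroupOf_eq_bot]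
    exact fun h => hD1 (disjoint_self.1 (h.mono_right hD.1))
  obtain ⟨⟨z, hzS⟩, ⟨hzD, hzC⟩, hz1⟩ :=
    CfsgLib.LocalEvenBasic.exists_mem_center_of_normal hS.2.1 (D.subgroupOf S) hne
  intro h
  have hz : z ∈ D ⊓ nrm S U := mem_inf.2 ⟨hzD, mem_inf.2 ⟨hzS,
    centralizer_le_normalizer _ (mem_centralizer_iff.2 fun u hu =>
      congrArg Subtype.val (mem_center_iff.1 hzC ⟨u, hU hu⟩))⟩⟩
  rw [h, mem_bot] at hz
  exact hz1 (Subtype.ext hz)

/-- Local to global. -/
theorem controls_of_local (hS : IsSylowIn p S ⊤) (hD : IsStronglyClosed D S) (hD1 : D ≠ ⊥)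
    (hn : n = 0 ∨ n = p)
    (hloc : ∀ U, U ≤ S → U ≠ ⊥ → Extremal p S U →
      FusControls {normalizer (zjay n (D ⊓ nrm S U) : Set G)} (nrm S U)
        (normalizer (U : Set G))) :
    FusControls {normalizer (zjay n D : Set G)} S ⊤ := by
  have hC : Climb p S (fun P => {normalizer (zjay n (D ⊓ P) : Set G)})
      (fun U => U ≤ S ∧ Extremal p S U) :=
    { le := fun U h => h.1
      extremal := fun U h => h.2
      exists_conj := fun T hT _ => by
        obtain ⟨a, h1, h2, -⟩ := exists_extremal_conj hS hT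
        exact ⟨_, ⟨a, rfl⟩, h1, h2, Or.inl ⟨h1, h2⟩⟩
      climb := fun U hU hne hP M hM => by
        rw [Set.mem_singleton_iff] at hM
        set V := zjay n (D ⊓ nrm S U) with hV
        have hVne : V ≠ ⊥ := zjay_ne_bot hn (hS.2.1.to_le (inf_le_right.trans inf_le_left))
          (inf_ne_bot_of_normalizing hS hD hD1 U hU.1)
        have hVS : V ≤ S := (zjay_le n _).trans (inf_le_right.trans inf_le_left)
        have hle : S ⊓ normalizer (nrm S U : Set G) ≤ normalizer (V : Set G) := fun g hg => by
          refine normalizer_le_normalizer_zjay n _ (mem_normalizer_of_forall_conj_mem fun x hx => ?_)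
          exact mem_inf.2 ⟨conj_mem_of_mem hD hx.1 hg.1, (mem_normalizer_iff.1 hg.2 x).1 hx.2⟩
        obtain ⟨a, ha1, ha2, ha3⟩ := exists_extremal_conj hS hVS
        exact Or.inr ⟨V, a, hVne, lt_of_lt_of_le
          (lt_inf_normalizer hS.2.1 (lt_of_le_of_ne inf_le_left hP)) (le_inf inf_le_left hle),
          hM.le, ha3, ha1, ha2⟩ }
  have h := fusControls_of_climb hS hC fun U hU hne => hloc U hU.1 hne hU.2
  simpa only [inf_eq_left.2 hD.1] using h

theorem controls_of_normal (h : (zjay n D).Normal) :
    FusControls {normalizer (zjay n D : Set G)} S ⊤ := fun _ g _ hA hgA =>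
  Fus.single hA rfl (by rw [normalizer_eq_top]; exact mem_top g) (cjSet_subset_iff.1 hgA)

/-- Transfer of control from a subgroup. -/
theorem controls_of_subgroup {L P : Subgroup G} (hPL : P ≤ L)
    (h : FusControls {normalizer ((zjay n ((D ⊓ P).subgroupOf L) : Subgroup L) : Set L)}
      (P.subgroupOf L) ⊤) :
    FusControls {normalizer (zjay n (D ⊓ P) : Set G)} P L := by
  have h1 := h.map L.subtype L.subtype_injective
  rw [map_subgroupOf_eq_of_le hPL, ← MonoidHom.range_eq_map, range_subtype, Set.image_singleton] at h1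
  refine h1.mono fun M hM => ⟨_, rfl, ?_⟩
  rw [Set.mem_singleton_iff] at hM
  rw [hM]
  refine (le_normalizer_map L.subtype).trans ?_
  rw [map_zjay L.subtype_injective, map_subgroupOf_eq_of_le (inf_le_right.trans hPL)]

/-- Transfer of control from the quotient by a normal `p'`-subgroup. -/
theorem controls_of_quotient_coprime (hS : IsSylowIn p S ⊤) (hD : IsStronglyClosed D S)
    (K : Subgroup G) [K.Normal] (hK : (Nat.card K).Coprime p)
    (h : FusControls {normalizer ((zjay n (D.map (QuotientGroup.mk' K)) : Subgroup (G ⧸ K)) : Set (G ⧸ K))}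
      (S.map (QuotientGroup.mk' K)) ⊤) :
    FusControls {normalizer (zjay n D : Set G)} S ⊤ := by
  have hdis := PLocal.disjoint_of_isPGroup_of_coprime hS.2.1 hK
  refine fusControls_of_quotient_disjoint hS hdis (fun M hM => ?_) (h.mono fun M hM => ?_)
  · rw [Set.mem_singleton_iff.1 hM]
    exact (le_normalizer_closed hD).trans (normalizer_le_normalizer_zjay n D)
  · rw [Set.mem_singleton_iff] at hM
    subst hM
    refine ⟨_, ⟨_, rfl, rfl⟩, ?_⟩
    have hinj : Set.InjOn (QuotientGroup.mk' K) S := by
      intro a ha b hb hab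
      have : a⁻¹ * b ∈ S ⊓ K := mem_inf.2 ⟨mul_mem (inv_mem ha) hb, QuotientGroup.eq.1 hab⟩
      rwa [hdis, mem_bot, inv_mul_eq_one] at this
    rw [← map_zjay_of_injOn (hinj.mono hD.1) n,
      PLocal.normalizer_map_mk'_eq K hK (hS.2.1.to_le ((zjay_le n D).trans hD.1))]

theorem constrained_stable_normal (hp2 : p ≠ 2) (hn : n = 0 ∨ n = p) (hS : IsSylowIn p S ⊤)
    (hD : IsStronglyClosed D S) (hst : IsNormalizerPStable p G) (hc : IsConstrained p G) :
    (zjay n D).Normal :=
  zjay_normal hp2 (Techniques.quadraticStable_of_stable hst) hc hn hS.toSylowTop hD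

/-- In a `Qd(p)`-free group, `p` odd, `N(zjay n D)` controls strong fusion. -/
theorem controls_of_qdFree (hp2 : p ≠ 2) (hn : n = 0 ∨ n = p) :
    ∀ (X : Type u) [Group X] [Finite X] (S D : Subgroup X), ¬ Involves ↥(qd p) X →
      IsSylowIn p S ⊤ → IsStronglyClosed D S →
      FusControls {normalizer (zjay n D : Set X)} S ⊤ := by
  suffices H : ∀ (m : ℕ) (X : Type u) [Group X] [Finite X] (S D : Subgroup X), Nat.card X = m →
      ¬ Involves ↥(qd p) X → IsSylowIn p S ⊤ → IsStronglyClosed D S →
      FusControls {normalizer (zjay n D : Set X)} S ⊤ from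
    fun X _ _ S D => H _ X S D rfl
  intro m
  induction m using Nat.strongRecOn with
  | ind m ih =>
  intro X _ _ S D hX hfree hS hD
  subst hX
  have hsub : ∀ (L P : Subgroup X), L ≠ ⊤ → P ≤ S → IsSylowIn p P L →
      FusControls {normalizer (zjay n (D ⊓ P) : Set X)} P L := by
    intro L P hL hPS hP
    refine controls_of_subgroup hP.1 (ih _ ?_ L _ _ rfl
      (fun h => hfree (involves_trans (involves_subgroup L) h))
      (isSylowIn_subgroupOf hP) (isStronglyClosed_subgroupOf hD hPS))
    exact lt_of_le_of_ne (card_le_card_group L) fun h => hL ((card_eq_iff_eq_top L).1 h)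
  have hprop : ∀ L : Subgroup X, L ≠ ⊤ → S ≤ L →
      FusControls {normalizer (zjay n D : Set X)} S L := fun L hL hSL => by
    have := hsub L S hL le_rfl (hS.of_le hSL le_top)
    rwa [inf_eq_left.2 hD.1] at this
  have hquot : ∀ (N : Subgroup X) [N.Normal], N ≠ ⊥ → ∀ (S' D' : Subgroup (X ⧸ N)),
      IsSylowIn p S' ⊤ → IsStronglyClosed D' S' →
      FusControls {normalizer (zjay n D' : Set (X ⧸ N))} S' ⊤ := fun N _ hN S' D' =>
    ih _ (by
      rw [← index_eq_card, ← card_mul_index N]
      exact lt_mul_of_one_lt_left (Nat.pos_of_ne_zero index_ne_zero_of_finite)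
        ((one_lt_card_iff_ne_bot N).2 hN)) (X ⧸ N) S' D' rfl
      fun h => hfree (involves_trans (involves_quotient N) h)
  by_cases hD1 : D = ⊥
  · exact controls_of_normal (by rw [hD1, zjay_bot]; infer_instance)
  by_cases hc : IsConstrained p X
  · exact controls_of_normal (constrained_stable_normal hp2 hn hS hD
      (LocalEven.isNormalizerPStable_of_qdFree hp2 hfree) hc)
  by_cases hQ : pCore p X = ⊥
  · refine controls_of_local hS hD hD1 hn fun U hU hne hext => hsub _ _ ?_ inf_le_left
      ((extremal_iff hS.2.1).mp hext)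
    intro h
    have : U.Normal := normalizer_eq_top_iff.mp h
    exact hne (le_bot_iff.mp (hQ ▸ PLocal.le_pCore (hS.2.1.to_le hU)))
  by_cases hK : pPrimeCore p X = ⊥
  swap
  · exact controls_of_quotient_coprime hS hD _ (PLocal.coprime_card_pPrimeCore p X)
      (hquot _ hK _ _ (isSylowIn_map hS _ (QuotientGroup.mk'_surjective _))
        (isStronglyClosed_map_coprime hS hD _))
  have hQS : pCore p X ≤ S := pCore_le_isSylowIn hS
  by_cases hDQ : D ≤ pCore p X
  · have : D.Normal := ⟨fun d hd g =>
      hD.2 d hd g (hQS ((inferInstance : (pCore p X).Normal).conj_mem d (hDQ hd) g))⟩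
    exact controls_of_normal (normalizer_eq_top_iff.1 (top_le_iff.1
      ((normalizer_eq_top D).ge.trans (normalizer_le_normalizer_zjay n D))))
  have hdS := normalizer_dSub_ne_top hS hK hc
  by_cases hCS : centralizer (pCore p X : Set X) ⊔ S = ⊤
  swap
  · refine (fusControls_pair hS).bind ?_
    rintro H (rfl | rfl)
    · exact hprop _ hCS le_sup_right
    · exact hprop _ hdS le_normalizer_dSub
  set f := QuotientGroup.mk' (pCore p X) with hf
  have hSf := isSylowIn_map hS f (QuotientGroup.mk'_surjective _)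
  have hDf := isStronglyClosed_map_of_le hD (pCore p X) hQS
  set M₀ := (normalizer ((zjay n (D.map f) : Subgroup (X ⧸ pCore p X)) : Set (X ⧸ pCore p X))).comap f
  have hSM : S ≤ M₀ := map_le_iff_le_comap.mp
    ((le_normalizer_closed hDf).trans (normalizer_le_normalizer_zjay n _))
  have hMtop : M₀ ≠ ⊤ := by
    intro htop
    replace htop := congrArg (Subgroup.map f) htop
    rw [map_comap_eq_self_of_surjective (QuotientGroup.mk'_surjective _),
      map_top_of_surjective _ (QuotientGroup.mk'_surjective _), normalizer_eq_top_iff] at htop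
    have hp := (hS.2.1.map f).to_le ((zjay_le n _).trans hDf.1)
    have h1 := PLocal.le_pCore (hN := htop) hp
    rw [PLocal.pCore_quotient_pCore_eq_bot, le_bot_iff] at h1
    refine zjay_ne_bot hn ((hS.2.1.map f).to_le hDf.1) (fun hb => hDQ ?_) h1
    rwa [Subgroup.map_eq_bot_iff, QuotientGroup.ker_mk'] at hb
  have hinner : FusControls {normalizer (zjay n D : Set X)} S S := fun A g hg hA hgA =>
    Fus.single hA rfl (normalizer_le_normalizer_zjay n D (le_normalizer_closed hD hg))
      (cjSet_subset_iff.1 hgA)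
  have hall : FusControls ({normalizer (zjay n D : Set X)} ∪ {M₀}) S ⊤ := by
    refine fusControls_of_quotient_pCore hS hCS
      (hinner.mono fun M hM => ⟨M, Or.inl hM, le_rfl⟩)
      ((hquot _ hQ _ _ hSf hDf).mono fun M hM => ?_)
    rw [Set.mem_singleton_iff] at hM
    subst hM
    exact ⟨_, ⟨M₀, Or.inr rfl, rfl⟩,
      (map_comap_eq_self_of_surjective (QuotientGroup.mk'_surjective _) _).ge⟩
  refine hall.bind ?_
  rintro H (hH | hH)
  · exact fun A g hg hA hgA => Fus.single hA hH hg (cjSet_subset_iff.mp hgA)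
  · rw [Set.mem_singleton_iff.1 hH]
    exact hprop _ hMtop hSM

/-- Stable groups with `p`-constrained locals. -/
theorem controls_of_constrained (hp2 : p ≠ 2) (hn : n = 0 ∨ n = p) (hS : IsSylowIn p S ⊤)
    (hD : IsStronglyClosed D S) (hst : IsNormalizerPStable p G)
    (hc : ∀ U : Subgroup G, U ≤ S → U ≠ ⊥ → IsPConstrained p ↥(normalizer (U : Set G))) :
    FusControls {normalizer (zjay n D : Set G)} S ⊤ := by
  by_cases hD1 : D = ⊥
  · exact controls_of_normal (by rw [hD1, zjay_bot]; infer_instance)
  refine controls_of_local hS hD hD1 hn fun U hU hne hext => ?_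
  set L := normalizer (U : Set G) with hLdef
  have hP := (extremal_iff hS.2.1).mp hext
  refine controls_of_subgroup hP.1 ?_
  have hSL := isSylowIn_subgroupOf hP
  have hDL : IsStronglyClosed ((D ⊓ nrm S U).subgroupOf L) ((nrm S U).subgroupOf L) :=
    isStronglyClosed_subgroupOf hD inf_le_left
  refine controls_of_quotient_coprime hSL hDL (pPrimeCore p ↥L)
    (PLocal.coprime_card_pPrimeCore p ↥L) (controls_of_normal ?_)
  exact constrained_stable_normal hp2 hn (isSylowIn_map hSL _ (QuotientGroup.mk'_surjective _))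
    (isStronglyClosed_map_coprime hSL hDL _)
    (Techniques.stable_quotient_coprime (Techniques.stable_subgroup hst L) _
      (PLocal.coprime_card_pPrimeCore p ↥L))
    (PLocal.isPConstrained_iff.1 (hc U hU hne))

/-- Strong fusion form. -/
theorem controlsStrongFusionOf {N : Subgroup G}
    (hN : normalizer (zjay n D : Set G) ≤ N)
    (h : FusControls {normalizer (zjay n D : Set G)} S ⊤) {A : Set G} (hA : A ⊆ S) :
    ControlsStrongFusionOf N S A := by
  refine ⟨hA, fun g hg => ?_⟩
  obtain ⟨x, hx, hxA⟩ := (h A g trivial hA hg).exists_mem_of_singleton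
  exact ⟨x, hN hx, fun a ha => (hxA a ha).symm⟩

theorem normalizer_le_omegaOne (A : Subgroup G) :
    normalizer (A : Set G) ≤ normalizer (omegaOne p A : Set G) := fun g hg => by
  rw [mem_normalizer_iff_map_conj_eq] at hg ⊢
  exact (PLocal.map_omegaOne (p := p) (f := (MulAut.conj g).toMonoidHom)
    (MulAut.conj g).injective A).trans (congrArg _ hg)

end CfsgLib.ZJStronglyClosed
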