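import Cfsg.Agent.ZJStronglyClosed.Basic
import Cfsg.Agent.Transfer.GlaubermanThompson

/-!
# The Glauberman–Thompson criterion for strongly closed subgroups
-/

set_option autoImplicit false

universe u

namespace CfsgLib.ZJStronglyClosed

open Cfsg Subgroup CfsgLib.OddOrder.ZJ CfsgLib.Transfer CfsgLib.ConjFunctor

variable {p : ℕ} {n : ℕ}

/-- Some strongly closed subgroup has the normalizer of its `zjay` `p`-nilpotent. -/
def CondD (p n : ℕ) (G : Type u) [Group G] (S : Subgroup G) : Prop :=
  ∃ D : Subgroup G, IsStronglyClosed D S ∧ HasNormalPComplement p (normalizer (zjay n D : Set G))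

theorem isStronglyClosed_self {G : Type*} [Group G] (S : Subgroup G) : IsStronglyClosed S S :=
  ⟨le_rfl, fun _ _ _ h => h⟩

variable [Fact p.Prime]

theorem functorD (hn : n = 0 ∨ n = p) : Skeleton.Functor.{u} p (CondD p n) where
  sub G _ _ S H h hSH := by
    obtain ⟨D, hD, hp⟩ := h
    have hDH : IsStronglyClosed ((D ⊓ (S : Subgroup G)).subgroupOf H)
        ((S : Subgroup G).subgroupOf H) := isStronglyClosed_subgroupOf hD le_rfl
    refine ⟨_, hDH, GlaubermanThompson.pnil_normalizer_of_map H.subtype H.subtype_injective ?_⟩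
    rw [map_zjay H.subtype_injective, map_subgroupOf_eq_of_le (inf_le_right.trans hSH),
      inf_eq_left.2 hD.1]
    exact hasNormalPComplement_of_injective hp (H.subtype.subgroupComap _)
      fun a b hab => Subtype.ext (H.subtype_injective (congrArg Subtype.val hab :))
  quot G _ _ S N _ hN h := by
    obtain ⟨D, hD, hp⟩ := h
    refine ⟨_, isStronglyClosed_map_coprime (isSylowIn_top S) hD N, ?_⟩
    rw [← map_zjay_of_injOn (fun x hx y hy hxy => congrArg Subtype.val
      (GlaubermanThompson.inj_of_coprime S N hN (a₁ := ⟨x, hD.1 hx⟩) (a₂ := ⟨y, hD.1 hy⟩) hxy))]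
    exact GlaubermanThompson.pnil_normalizer_image N hN
      (S.isPGroup'.to_le ((zjay_le n D).trans hD.1)) hp
  norm G _ _ S h := by
    obtain ⟨D, hD, hp⟩ := h
    exact hasNormalPComplement_of_le
      ((normalizer_sylow_le hD).trans (normalizer_le_normalizer_zjay n D)) hp
  witness G H _ _ _ _ f hf R hR hc := by
    refine ⟨zjay n ((R : Subgroup H).map f), zjay_le n _,
      zjay_ne_bot hn (R.isPGroup'.map f) ?_, normalizer_le_normalizer_zjay n _,
      fun h => hc ⟨_, isStronglyClosed_self _, ?_⟩⟩
    · rwa [ne_eq, Subgroup.map_eq_bot_iff_of_injective _ hf]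
    · refine GlaubermanThompson.pnil_normalizer_of_map f hf ?_
      rw [map_zjay hf]
      exact h

/-- **Glauberman–Thompson** for strongly closed subgroups. -/
theorem hasNormalPComplement (hp2 : p ≠ 2) (hn : n = 0 ∨ n = p) {G : Type u} [Group G] [Finite G]
    (S : Sylow p G) {D : Subgroup G} (hD : IsStronglyClosed D (S : Subgroup G))
    (h : HasNormalPComplement p (normalizer (zjay n D : Set G))) : HasNormalPComplement p G :=
  Skeleton.hasNormalPComplement_of_critical hp2 (functorD hn) (fun X _ _ T hcr => by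
    obtain ⟨E, hE, hp⟩ := hcr.cond
    haveI := zjay_normal hp2 hcr.stable hcr.constrained hn T hE
    rw [normalizer_eq_top] at hp
    exact hcr.not_pnil ((hasNormalPComplement_congr Subgroup.topEquiv).1 hp)) _ G le_rfl S ⟨D, hD, h⟩

end CfsgLib.ZJStronglyClosed
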