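import Cfsg.Agent.ZJStronglyClosed.Glauberman
import Cfsg.Agent.ConjFunctor.Basic

/-!
# Transport of `zjay` and of strongly closed subgroups
-/

set_option autoImplicit false

namespace CfsgLib.ZJStronglyClosed

open Cfsg Subgroup CfsgLib.OddOrder.ZJ CfsgLib.ConjFunctor

variable {G H : Type*} [Group G] [Group H]

theorem map_maxIn {f : G →* H} (hf : Function.Injective f) (n : ℕ) (P : Subgroup G) :
    maxIn n (P.map f) = Subgroup.map f '' maxIn n P := by
  have hback : ∀ B : Subgroup H, B ≤ P.map f → IsExpAbelian n B →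
      ∃ A : Subgroup G, A ≤ P ∧ IsExpAbelian n A ∧ A.map f = B := by
    intro B hB hBe
    refine ⟨B.comap f, ?_, ⟨⟨⟨fun a b => Subtype.ext (hf ?_)⟩⟩, fun a ha => hf ?_⟩, ?_⟩
    · rw [← comap_map_eq_self_of_injective hf P]; exact comap_mono hB
    · simp only [Subgroup.coe_mul, map_mul]
      exact congrArg Subtype.val (hBe.1.is_comm.comm ⟨f a, a.2⟩ ⟨f b, b.2⟩)
    · rw [map_pow, hBe.2 (f a) ha, map_one]
    · exact map_comap_eq_self (hB.trans (map_le_range f P))
  ext B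
  constructor
  · rintro ⟨hB, hBe, hBmax⟩
    obtain ⟨A, hA, hAe, rfl⟩ := hback B hB hBe
    refine ⟨A, ⟨hA, hAe, fun C hC hCe => ?_⟩, rfl⟩
    have := hBmax (C.map f) (map_mono hC) (isExpAbelian_map f hCe)
    rwa [card_map_of_injective hf, card_map_of_injective hf] at this
  · rintro ⟨A, ⟨hA, hAe, hAmax⟩, rfl⟩
    refine ⟨map_mono hA, isExpAbelian_map f hAe, fun C hC hCe => ?_⟩
    obtain ⟨C', hC', hCe', rfl⟩ := hback C hC hCe
    rw [card_map_of_injective hf, card_map_of_injective hf]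
    exact hAmax C' hC' hCe'

theorem map_jay {f : G →* H} (hf : Function.Injective f) (n : ℕ) (P : Subgroup G) :
    (jay n P).map f = jay n (P.map f) := by
  rw [jay, jay, map_maxIn hf, (gc_map_comap f).l_sSup, sSup_image]

theorem map_zjay {f : G →* H} (hf : Function.Injective f) (n : ℕ) (P : Subgroup G) :
    (zjay n P).map f = zjay n (P.map f) := by
  rw [zjay, zjay, PLocal.map_inf_centralizer hf, map_jay hf]

/-- `zjay` commutes with homomorphisms injective on the subgroup. -/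
theorem map_zjay_of_injOn {f : G →* H} {P : Subgroup G} (hf : Set.InjOn f P) (n : ℕ) :
    (zjay n P).map f = zjay n (P.map f) := by
  have hinj : Function.Injective (f.comp P.subtype) := fun a b h => Subtype.ext (hf a.2 b.2 h)
  have h1 := map_zjay P.subtype_injective n (⊤ : Subgroup P)
  rw [← MonoidHom.range_eq_map, range_subtype] at h1
  have h2 := map_zjay hinj n (⊤ : Subgroup P)
  rw [← MonoidHom.range_eq_map, MonoidHom.range_comp, range_subtype] at h2
  rw [← h1, Subgroup.map_map, h2]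

theorem zjay_bot (n : ℕ) : zjay n (⊥ : Subgroup G) = ⊥ := le_bot_iff.1 (zjay_le n _)

theorem zjay_ne_bot [Finite G] {p : ℕ} [Fact p.Prime] {n : ℕ} (hn : n = 0 ∨ n = p)
    {P : Subgroup G} (hP : IsPGroup p P) (hne : P ≠ ⊥) : zjay n P ≠ ⊥ := by
  intro hbot
  have hpdvd : p ∣ Nat.card P := by
    obtain ⟨k, hk⟩ := IsPGroup.iff_card.1 hP
    rcases k with _ | k
    · exact absurd (card_eq_one.1 (by simpa using hk)) hne
    · rw [hk]; exact dvd_pow_self p k.succ_ne_zero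
  obtain ⟨x, hx⟩ := exists_prime_orderOf_dvd_card' p hpdvd
  obtain ⟨A, hA, hAmax⟩ := Set.Finite.exists_maximalFor (fun A : Subgroup G => Nat.card A)
    {A : Subgroup G | A ≤ P ∧ IsExpAbelian n A} (Set.toFinite _)
    ⟨⊥, bot_le, inferInstance, fun a ha => by rw [mem_bot.1 ha, one_pow]⟩
  have hAm : A ∈ maxIn n P := ⟨hA.1, hA.2, fun B hB hBe =>
    (le_total (Nat.card B) (Nat.card A)).elim id fun h => hAmax ⟨hB, hBe⟩ h⟩
  have hxp : (x : G) ^ p = 1 := by
    rw [← hx, ← SubmonoidClass.coe_pow, pow_orderOf_eq_one, OneMemClass.coe_one]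
  have hex : IsExpAbelian n (zpowers (x : G)) := ⟨inferInstance, fun a ha => by
    rcases hn with hn0 | hnp
    · rw [hn0, pow_zero]
    · obtain ⟨k, rfl⟩ := mem_zpowers_iff.1 ha
      rw [hnp, ← zpow_natCast, ← zpow_mul, mul_comm, zpow_mul, zpow_natCast, hxp, one_zpow]⟩
  have h1 := hAm.2.2 _ (zpowers_le.2 x.2) hex
  rw [Nat.card_zpowers, show orderOf (x : G) = p from by rw [← hx]; exact orderOf_coe x] at h1
  have hJne : jay n P ≠ ⊥ := fun h => by
    have hA0 : A = ⊥ := le_bot_iff.1 (h ▸ le_sSup hAm)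
    rw [hA0, card_bot] at h1
    exact absurd h1 (not_le.2 (Fact.out : p.Prime).one_lt)
  haveI : Nontrivial (jay n P) := (nontrivial_iff_ne_bot _).mpr hJne
  haveI : Nontrivial (center (jay n P)) := (hP.to_le (jay_le n P)).center_nontrivial
  obtain ⟨⟨z, hz⟩, hz1⟩ := exists_ne (1 : center (jay n P))
  refine hz1 (Subtype.ext (Subtype.ext ?_))
  have hmem : (z : G) ∈ zjay n P := ⟨z.2, mem_centralizer_iff.2 fun y hy =>
    congrArg Subtype.val (mem_center_iff.1 hz ⟨y, hy⟩)⟩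
  rwa [hbot, mem_bot] at hmem

variable {p : ℕ}

/-- Restriction of a strongly closed subgroup to a subgroup. -/
theorem isStronglyClosed_subgroupOf {D S P L : Subgroup G} (hD : IsStronglyClosed D S) (hPS : P ≤ S) :
    IsStronglyClosed ((D ⊓ P).subgroupOf L) (P.subgroupOf L) :=
  ⟨comap_mono inf_le_right, fun x hx g hg =>
    mem_subgroupOf.2 (mem_inf.2 ⟨hD.2 x (mem_subgroupOf.1 hx).1 g (hPS hg), hg⟩)⟩

/-- Image modulo a normal `p'`-subgroup. -/
theorem isStronglyClosed_map_coprime [Finite G] [Fact p.Prime] {D S : Subgroup G}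
    (hS : IsSylowIn p S ⊤) (hD : IsStronglyClosed D S) (K : Subgroup G) [K.Normal] :
    IsStronglyClosed (D.map (QuotientGroup.mk' K)) (S.map (QuotientGroup.mk' K)) := by
  refine ⟨map_mono hD.1, ?_⟩
  rintro _ ⟨d, hd, rfl⟩ gb hg
  obtain ⟨g, rfl⟩ := QuotientGroup.mk'_surjective K gb
  rw [← map_inv, ← map_mul, ← map_mul] at hg ⊢
  have hmem : g * d * g⁻¹ ∈ S ⊔ K := by
    obtain ⟨s, hs, hsg⟩ := hg
    have h1 : s⁻¹ * (g * d * g⁻¹) ∈ K := QuotientGroup.eq.1 hsg
    have := mul_mem (le_sup_left (b := K) hs) (le_sup_right (a := S) h1)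
    rwa [mul_inv_cancel_left] at this
  have hle : zpowers (g * d * g⁻¹) ≤ S ⊔ K := zpowers_le.2 hmem
  have hp : IsPGroup p ↥(zpowers (g * d * g⁻¹)) := (isPGroup_cj g hS.2.1).to_le
    (zpowers_le.2 (conj_mem_cj g (hD.1 hd)))
  obtain ⟨a, ha, haS⟩ := (hS.of_le le_sup_left le_top : IsSylowIn p S (S ⊔ K)).exists_cj_le hle hp
  obtain ⟨s, hs, k, hk, rfl⟩ := mem_sup_of_normal_right.1 ha
  have h2 : s * k * (g * d * g⁻¹) * (s * k)⁻¹ ∈ S := haS (conj_mem_cj _ (mem_zpowers _))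
  have h3 : k * (g * d * g⁻¹) * k⁻¹ ∈ D := by
    refine by
      have h4 : s⁻¹ * (s * k * (g * d * g⁻¹) * (s * k)⁻¹) * s ∈ S :=
        mul_mem (mul_mem (inv_mem hs) h2) hs
      have e : s⁻¹ * (s * k * (g * d * g⁻¹) * (s * k)⁻¹) * s = (k * g) * d * (k * g)⁻¹ := by group
      rw [e] at h4
      have h5 := hD.2 d hd (k * g) h4
      rwa [show k * (g * d * g⁻¹) * k⁻¹ = (k * g) * d * (k * g)⁻¹ by group]
  refine ⟨_, h3, ?_⟩
  have hk1 : QuotientGroup.mk' K k = 1 := (QuotientGroup.eq_one_iff k).2 hk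
  simp [map_mul, map_inv, hk1]

/-- Image modulo a normal subgroup of the Sylow subgroup. -/
theorem isStronglyClosed_map_of_le {D S : Subgroup G} (hD : IsStronglyClosed D S)
    (Q : Subgroup G) [Q.Normal] (hQS : Q ≤ S) :
    IsStronglyClosed (D.map (QuotientGroup.mk' Q)) (S.map (QuotientGroup.mk' Q)) := by
  refine ⟨map_mono hD.1, ?_⟩
  rintro _ ⟨d, hd, rfl⟩ gb hg
  obtain ⟨g, rfl⟩ := QuotientGroup.mk'_surjective Q gb
  rw [← map_inv, ← map_mul, ← map_mul] at hg ⊢
  refine ⟨_, hD.2 d hd g ?_, rfl⟩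
  obtain ⟨s, hs, hsg⟩ := hg
  have h1 : s⁻¹ * (g * d * g⁻¹) ∈ Q := QuotientGroup.eq.1 hsg
  have := mul_mem hs (hQS h1)
  rwa [mul_inv_cancel_left] at this

end CfsgLib.ZJStronglyClosed
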